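import Mathlib
import Cfsg.Prelude.Def_Sporadic_a

set_option autoImplicit false

/-!
Counting in Steiner systems: the number `sN B S` of blocks containing `S`.
-/

namespace Cfsg.Agent.H93

open Classical in
/-- number of members of `B` that contain `S` -/
noncomputable def sN {α : Type*} [Fintype α] [DecidableEq α] (B : Set (Finset α)) (S : Finset α) : ℕ :=
  (Finset.univ.filter fun b : Finset α => b ∈ B ∧ S ⊆ b).card

variable {α : Type*} [Fintype α] [DecidableEq α]

open Classical in
theorem sN_eq_ncard (B : Set (Finset α)) (S : Finset α) : {b : Finset α | b ∈ B ∧ S ⊆ b}.ncard = sN B S := by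
  rw [sN, ← Set.ncard_coe_finset]
  congr 1
  ext b
  simp

open Classical in
/-- number of blocks through a `t`-set is one -/
theorem sN_top {t k : ℕ} {B : Set (Finset α)} (hB : Cfsg.IsSteinerSystem t k B) (S : Finset α) (hS : S.card = t) :
    sN B S = 1 := by
  rw [sN, Finset.card_eq_one]
  obtain ⟨b, hb, hbu⟩ := hB.2 S hS
  refine ⟨b, ?_⟩
  ext c
  simp only [Finset.mem_filter, Finset.mem_univ, true_and, Finset.mem_singleton]
  exact ⟨fun h => hbu c h, fun h => h ▸ hb⟩

open Classical in
/-- double counting -/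
theorem sN_step {t k : ℕ} {B : Set (Finset α)} (hB : Cfsg.IsSteinerSystem t k B) (S : Finset α) :
    ∑ x ∈ Finset.univ \ S, sN B (insert x S) = (k - S.card) * sN B S := by
  have h1 : ∀ x ∈ Finset.univ \ S, sN B (insert x S) =
      ∑ b ∈ Finset.univ.filter (fun b : Finset α => b ∈ B ∧ S ⊆ b), if x ∈ b then 1 else 0 := by
    intro x _
    rw [sN, Finset.card_eq_sum_ones, Finset.sum_boole, Finset.filter_filter]
    simp only [Finset.sum_const, smul_eq_mul, mul_one, Nat.cast_id]
    congr 1
    ext b
    simp only [Finset.mem_filter, Finset.mem_univ, true_and, Finset.insert_subset_iff]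
    tauto
  rw [Finset.sum_congr rfl h1, Finset.sum_comm]
  have h2 : ∀ b ∈ Finset.univ.filter (fun b : Finset α => b ∈ B ∧ S ⊆ b),
      (∑ x ∈ Finset.univ \ S, if x ∈ b then 1 else 0) = k - S.card := by
    intro b hb
    simp only [Finset.mem_filter, Finset.mem_univ, true_and] at hb
    rw [Finset.sum_boole, Nat.cast_id]
    have : (Finset.univ \ S).filter (fun x => x ∈ b) = b \ S := by
      ext x
      simp only [Finset.mem_filter, Finset.mem_sdiff, Finset.mem_univ, true_and]
      tauto
    rw [this, Finset.card_sdiff_of_subset hb.2, hB.1 b hb.1]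
  rw [Finset.sum_congr rfl h2, Finset.sum_const, sN, smul_eq_mul, mul_comm]

/-- if all `(i+1)`-sets are in `c` blocks then every `i`-set `S` satisfies `(k-i) * N(S) = (v-i) * c` -/
theorem sN_descend {t k : ℕ} {B : Set (Finset α)} (hB : Cfsg.IsSteinerSystem t k B) (i c : ℕ)
    (h : ∀ T : Finset α, T.card = i + 1 → sN B T = c) (S : Finset α) (hS : S.card = i) :
    (Fintype.card α - i) * c = (k - i) * sN B S := by
  have := sN_step hB S
  rw [hS] at this
  rw [← this, Finset.sum_congr rfl (g := fun _ => c), Finset.sum_const, smul_eq_mul]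
  · rw [Finset.card_sdiff_of_subset (Finset.subset_univ S), Finset.card_univ, hS]
  · intro x hx
    apply h
    rw [Finset.card_insert_of_notMem (Finset.mem_sdiff.1 hx).2, hS]

/-- The parameters of S(5,8,24). -/
theorem sN_5_8_24 (hα : Fintype.card α = 24) {B : Set (Finset α)} (hB : Cfsg.IsSteinerSystem 5 8 B) :
    (∀ S : Finset α, S.card = 5 → sN B S = 1) ∧ (∀ S : Finset α, S.card = 4 → sN B S = 5) ∧
    (∀ S : Finset α, S.card = 3 → sN B S = 21) ∧ (∀ S : Finset α, S.card = 2 → sN B S = 77) ∧
    (∀ S : Finset α, S.card = 1 → sN B S = 253) ∧ (∀ S : Finset α, S.card = 0 → sN B S = 759) := by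
  have h5 : ∀ S : Finset α, S.card = 5 → sN B S = 1 := fun S hS => sN_top hB S hS
  have h4 : ∀ S : Finset α, S.card = 4 → sN B S = 5 := fun S hS => by
    have := sN_descend hB 4 1 h5 S hS
    rw [hα] at this; omega
  have h3 : ∀ S : Finset α, S.card = 3 → sN B S = 21 := fun S hS => by
    have := sN_descend hB 3 5 h4 S hS
    rw [hα] at this; omega
  have h2 : ∀ S : Finset α, S.card = 2 → sN B S = 77 := fun S hS => by
    have := sN_descend hB 2 21 h3 S hS
    rw [hα] at this; omega
  have h1 : ∀ S : Finset α, S.card = 1 → sN B S = 253 := fun S hS => by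
    have := sN_descend hB 1 77 h2 S hS
    rw [hα] at this; omega
  have h0 : ∀ S : Finset α, S.card = 0 → sN B S = 759 := fun S hS => by
    have := sN_descend hB 0 253 h1 S hS
    rw [hα] at this; omega
  exact ⟨h5, h4, h3, h2, h1, h0⟩

end Cfsg.Agent.H93
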