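import Mathlib
import Cfsg.Prelude.Def_Sporadic_a
import Cfsg.Agent.H93.Steiner

set_option autoImplicit false
set_option linter.unusedSectionVars false

/-!
Projective planes of order 4, as Steiner systems S(2,5,21): lines, hyperovals.
-/

namespace Cfsg.Agent.H93

variable {α : Type*} [Fintype α] [DecidableEq α]

/-- hypothesis block: a plane of order 4 -/
structure IsPl (L : Set (Finset α)) : Prop where
  card : Fintype.card α = 21
  st : Cfsg.IsSteinerSystem 2 5 L

variable {L : Set (Finset α)}

namespace IsPl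

theorem exists_line (h : IsPl L) {a b : α} (hab : a ≠ b) : ∃! l, l ∈ L ∧ ({a, b} : Finset α) ⊆ l :=
  h.st.2 {a, b} (Finset.card_pair hab)

open Classical in
/-- line through two distinct points -/
noncomputable def ln (h : IsPl L) (a b : α) : Finset α :=
  if hab : a ≠ b then (h.exists_line hab).choose else ∅

theorem ln_mem (h : IsPl L) {a b : α} (hab : a ≠ b) : h.ln a b ∈ L := by
  rw [ln, dif_pos hab]; exact (h.exists_line hab).choose_spec.1.1

theorem left_mem (h : IsPl L) {a b : α} (hab : a ≠ b) : a ∈ h.ln a b := by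
  rw [ln, dif_pos hab]; exact (h.exists_line hab).choose_spec.1.2 (by simp)

theorem right_mem (h : IsPl L) {a b : α} (hab : a ≠ b) : b ∈ h.ln a b := by
  rw [ln, dif_pos hab]; exact (h.exists_line hab).choose_spec.1.2 (by simp)

theorem eq_ln (h : IsPl L) {a b : α} (hab : a ≠ b) {l : Finset α} (hl : l ∈ L) (ha : a ∈ l) (hb : b ∈ l) :
    l = h.ln a b := by
  rw [ln, dif_pos hab]
  exact (h.exists_line hab).choose_spec.2 l ⟨hl, by
    rw [Finset.insert_subset_iff, Finset.singleton_subset_iff]; exact ⟨ha, hb⟩⟩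

theorem ln_comm (h : IsPl L) {a b : α} (hab : a ≠ b) : h.ln a b = h.ln b a :=
  h.eq_ln hab.symm (h.ln_mem hab) (h.right_mem hab) (h.left_mem hab)

theorem line_card (h : IsPl L) {l : Finset α} (hl : l ∈ L) : l.card = 5 := h.st.1 l hl

/-- two lines with two common points are equal -/
theorem line_eq (h : IsPl L) {l m : Finset α} (hl : l ∈ L) (hm : m ∈ L) {a b : α} (hab : a ≠ b)
    (hal : a ∈ l) (hbl : b ∈ l) (ham : a ∈ m) (hbm : b ∈ m) : l = m := by
  rw [h.eq_ln hab hl hal hbl, h.eq_ln hab hm ham hbm]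

/-- a common point of two distinct lines is unique -/
theorem pt_eq (h : IsPl L) {l m : Finset α} (hl : l ∈ L) (hm : m ∈ L) (hlm : l ≠ m) {a b : α}
    (hal : a ∈ l) (hbl : b ∈ l) (ham : a ∈ m) (hbm : b ∈ m) : a = b := by
  by_contra hab
  exact hlm (h.line_eq hl hm hab hal hbl ham hbm)

open Classical in
theorem card_thru (h : IsPl L) (p : α) : (Finset.univ.filter fun l : Finset α => l ∈ L ∧ p ∈ l).card = 5 := by
  have h2 : ∀ S : Finset α, S.card = 1 + 1 → sN L S = 1 := fun S hS => sN_top h.st S hS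
  have := sN_descend h.st 1 1 h2 {p} (Finset.card_singleton p)
  rw [h.card] at this
  have h5 : sN L {p} = 5 := by omega
  rw [← h5, sN]
  congr 1
  ext l
  simp

open Classical in
theorem card_lines (h : IsPl L) : (Finset.univ.filter fun l : Finset α => l ∈ L).card = 21 := by
  have h2 : ∀ S : Finset α, S.card = 1 + 1 → sN L S = 1 := fun S hS => sN_top h.st S hS
  have h1 : ∀ S : Finset α, S.card = 0 + 1 → sN L S = 5 := fun S hS => by
    have := sN_descend h.st 1 1 h2 S hS
    rw [h.card] at this; omega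
  have := sN_descend h.st 0 5 h1 ∅ rfl
  rw [h.card] at this
  have h5 : sN L ∅ = 21 := by omega
  rw [← h5, sN]
  congr 1
  ext l
  simp

open Classical in
/-- two lines always meet -/
theorem meet (h : IsPl L) {l m : Finset α} (hl : l ∈ L) (hm : m ∈ L) : ∃ x, x ∈ l ∧ x ∈ m := by
  by_cases hml : m ⊆ l
  · obtain ⟨x, hx⟩ : m.Nonempty := by
      rw [← Finset.card_pos, h.line_card hm]; norm_num
    exact ⟨x, hml hx, hx⟩
  · obtain ⟨p, hpm, hpl⟩ := Finset.not_subset.1 hml
    have hne : ∀ x ∈ l, p ≠ x := fun x hx hpx => hpl (hpx ▸ hx)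
    let Lp := Finset.univ.filter fun l : Finset α => l ∈ L ∧ p ∈ l
    have hmaps : ∀ x ∈ l, h.ln p x ∈ Lp := fun x hx => by
      simp only [Lp, Finset.mem_filter, Finset.mem_univ, true_and]
      exact ⟨h.ln_mem (hne x hx), h.left_mem (hne x hx)⟩
    have hinj : Set.InjOn (fun x => h.ln p x) l := by
      intro x hx y hy hxy
      by_contra hne'
      have h1 : h.ln p x = l := h.line_eq (h.ln_mem (hne x hx)) hl hne' (h.right_mem (hne x hx))
        (by
          have : h.ln p x = h.ln p y := hxy
          rw [this]; exact h.right_mem (hne y hy)) hx hy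
      exact hpl (h1 ▸ h.left_mem (hne x hx))
    have hsurj := Finset.surjOn_of_injOn_of_card_le (fun x => h.ln p x) (fun x hx => hmaps x hx) hinj
      (by rw [h.card_thru p, h.line_card hl])
    have hmL : m ∈ (Lp : Set (Finset α)) := by
      simp only [Lp, Finset.coe_filter, Finset.mem_univ, true_and, Set.mem_ofPred_eq]
      exact ⟨hm, hpm⟩
    obtain ⟨x, hx, hxm⟩ := hsurj hmL
    refine ⟨x, hx, ?_⟩
    have hxm' : h.ln p x = m := hxm
    rw [← hxm']
    exact h.right_mem (hne x hx)

/-- independent set: no line has more than two of its points -/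
def Ind (_ : IsPl L) (S : Finset α) : Prop := ∀ l ∈ L, (l ∩ S).card ≤ 2

theorem Ind.mono {h : IsPl L} {S T : Finset α} (hT : h.Ind T) (hST : S ⊆ T) : h.Ind S := fun l hl =>
  (Finset.card_le_card (Finset.inter_subset_inter_left hST)).trans (hT l hl)

/-- three distinct points of an independent set are not collinear -/
theorem Ind.not_mem {h : IsPl L} {S : Finset α} (hS : h.Ind S) {a b c : α} (ha : a ∈ S) (hb : b ∈ S) (hc : c ∈ S)
    (hab : a ≠ b) (hac : a ≠ c) (hbc : b ≠ c) : c ∉ h.ln a b := by
  intro hmem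
  have h1 := hS _ (h.ln_mem hab)
  have h2 : ({a, b, c} : Finset α) ⊆ h.ln a b ∩ S := by
    intro x hx
    simp only [Finset.mem_insert, Finset.mem_singleton] at hx
    rw [Finset.mem_inter]
    rcases hx with rfl | rfl | rfl
    · exact ⟨h.left_mem hab, ha⟩
    · exact ⟨h.right_mem hab, hb⟩
    · exact ⟨hmem, hc⟩
  have h3 := Finset.card_le_card h2
  rw [Finset.card_eq_three.2 ⟨a, b, c, hab, hac, hbc, rfl⟩] at h3
  omega

theorem ind_of_not_mem {h : IsPl L} {S : Finset α}
    (hS : ∀ a ∈ S, ∀ b ∈ S, ∀ c ∈ S, a ≠ b → a ≠ c → b ≠ c → c ∉ h.ln a b) : h.Ind S := by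
  intro l hl
  by_contra hcon
  push Not at hcon
  obtain ⟨T, hT, hT3⟩ := Finset.exists_subset_card_eq (n := 3) (s := l ∩ S) (by omega)
  obtain ⟨a, b, c, hab, hac, hbc, rfl⟩ := Finset.card_eq_three.1 hT3
  have ha := Finset.mem_inter.1 (hT (show a ∈ ({a, b, c} : Finset α) by simp))
  have hb := Finset.mem_inter.1 (hT (show b ∈ ({a, b, c} : Finset α) by simp))
  have hc := Finset.mem_inter.1 (hT (show c ∈ ({a, b, c} : Finset α) by simp))
  apply hS a ha.2 b hb.2 c hc.2 hab hac hbc
  rw [← h.eq_ln hab hl ha.1 hb.1]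
  exact hc.1

/-- adding a point -/
theorem ind_insert_iff {h : IsPl L} {S : Finset α} (hS : h.Ind S) {x : α} (hx : x ∉ S) :
    h.Ind (insert x S) ↔ ∀ a ∈ S, ∀ b ∈ S, a ≠ b → x ∉ h.ln a b := by
  constructor
  · intro hI a ha b hb hab
    exact hI.not_mem (Finset.mem_insert_of_mem ha) (Finset.mem_insert_of_mem hb) (Finset.mem_insert_self _ _) hab
      (fun e => hx (e ▸ ha)) (fun e => hx (e ▸ hb))
  · intro hI
    apply ind_of_not_mem
    intro a ha b hb c hc hab hac hbc hmem
    rw [Finset.mem_insert] at ha hb hc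
    rcases hc with rfl | hc
    · -- c = x
      rcases ha with rfl | ha
      · exact hac rfl
      rcases hb with rfl | hb
      · exact hbc rfl
      exact hI a ha b hb hab hmem
    · rcases ha with rfl | ha
      · rcases hb with rfl | hb
        · exact hab rfl
        · -- a = x : c ∈ ln x b → x ∈ ln b c
          apply hI b hb c hc hbc
          rw [← h.eq_ln hbc (h.ln_mem hab) (h.right_mem hab) hmem]
          exact h.left_mem hab
      · rcases hb with rfl | hb
        · apply hI a ha c hc hac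
          rw [← h.eq_ln hac (h.ln_mem hab) (h.left_mem hab) hmem]
          exact h.right_mem hab
        · exact hS.not_mem ha hb hc hab hac hbc hmem

end IsPl

end Cfsg.Agent.H93
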