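import Mathlib
import Cfsg.Prelude.Def_Sporadic_a
import Cfsg.Agent.H93.Plane4

set_option autoImplicit false
set_option linter.unusedSectionVars false

/-!
Projective planes of order 4: extension counts and hyperovals.
-/

namespace Cfsg.Agent.H93

variable {α : Type*} [Fintype α] [DecidableEq α] {L : Set (Finset α)}

namespace IsPl

theorem inter_eq (h : IsPl L) {l m : Finset α} (hl : l ∈ L) (hm : m ∈ L) (hlm : l ≠ m) {x : α} (hxl : x ∈ l)
    (hxm : x ∈ m) : l ∩ m = {x} := by
  ext y
  rw [Finset.mem_inter, Finset.mem_singleton]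
  constructor
  · rintro ⟨h1, h2⟩
    exact h.pt_eq hl hm hlm h1 hxl h2 hxm
  · rintro rfl
    exact ⟨hxl, hxm⟩

/-- points on the extension -/
noncomputable def Ext (h : IsPl L) (S : Finset α) : Finset α :=
  open Classical in Finset.univ.filter fun x => x ∉ S ∧ h.Ind (insert x S)

theorem mem_Ext {h : IsPl L} {S : Finset α} {x : α} : x ∈ h.Ext S ↔ x ∉ S ∧ h.Ind (insert x S) := by
  simp [Ext]

theorem ind_pair (h : IsPl L) (a b : α) : h.Ind {a, b} := fun l _ =>
  (Finset.card_le_card Finset.inter_subset_right).trans Finset.card_le_two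

/-- extension points of a pair -/
theorem ext_two (h : IsPl L) {a b : α} (hab : a ≠ b) : h.Ext {a, b} = Finset.univ \ h.ln a b := by
  ext x
  rw [mem_Ext, Finset.mem_sdiff]
  constructor
  · rintro ⟨hx, hI⟩
    refine ⟨Finset.mem_univ _, ?_⟩
    exact (ind_insert_iff (h.ind_pair a b) hx).1 hI a (by simp) b (by simp) hab
  · rintro ⟨-, hx⟩
    have hx' : x ∉ ({a, b} : Finset α) := by
      intro hmem
      simp only [Finset.mem_insert, Finset.mem_singleton] at hmem
      rcases hmem with rfl | rfl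
      · exact hx (h.left_mem hab)
      · exact hx (h.right_mem hab)
    refine ⟨hx', (ind_insert_iff (h.ind_pair a b) hx').2 ?_⟩
    intro c hc d hd hcd
    simp only [Finset.mem_insert, Finset.mem_singleton] at hc hd
    rcases hc with rfl | rfl <;> rcases hd with rfl | rfl
    · exact absurd rfl hcd
    · exact hx
    · rw [h.ln_comm hcd]; exact hx
    · exact absurd rfl hcd

theorem card_ext_two (h : IsPl L) {a b : α} (hab : a ≠ b) : (h.Ext {a, b}).card = 16 := by
  rw [h.ext_two hab, Finset.card_sdiff_of_subset (Finset.subset_univ _), Finset.card_univ, h.card,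
    h.line_card (h.ln_mem hab)]

/-- union of the three lines of a triangle -/
noncomputable def U3 (h : IsPl L) (a b c : α) : Finset α := h.ln a b ∪ h.ln a c ∪ h.ln b c

theorem ext_three (h : IsPl L) {a b c : α} (hab : a ≠ b) (hac : a ≠ c) (hbc : b ≠ c) (hI : h.Ind {a, b, c}) :
    h.Ext {a, b, c} = Finset.univ \ h.U3 a b c := by
  ext x
  rw [mem_Ext, Finset.mem_sdiff, U3, Finset.mem_union, Finset.mem_union]
  constructor
  · rintro ⟨hx, hI'⟩
    refine ⟨Finset.mem_univ _, ?_⟩
    have := (ind_insert_iff hI hx).1 hI'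
    rintro ((h1 | h1) | h1)
    · exact this a (by simp) b (by simp) hab h1
    · exact this a (by simp) c (by simp) hac h1
    · exact this b (by simp) c (by simp) hbc h1
  · rintro ⟨-, hx⟩
    push Not at hx
    obtain ⟨⟨h1, h2⟩, h3⟩ := hx
    have hx' : x ∉ ({a, b, c} : Finset α) := by
      intro hmem
      simp only [Finset.mem_insert, Finset.mem_singleton] at hmem
      rcases hmem with rfl | rfl | rfl
      · exact h1 (h.left_mem hab)
      · exact h1 (h.right_mem hab)
      · exact h2 (h.right_mem hac)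
    refine ⟨hx', (ind_insert_iff hI hx').2 ?_⟩
    intro p hp q hq hpq
    simp only [Finset.mem_insert, Finset.mem_singleton] at hp hq
    rcases hp with rfl | rfl | rfl <;> rcases hq with rfl | rfl | rfl
    · exact absurd rfl hpq
    · exact h1
    · exact h2
    · rw [h.ln_comm hpq]; exact h1
    · exact absurd rfl hpq
    · exact h3
    · rw [h.ln_comm hpq]; exact h2
    · rw [h.ln_comm hpq]; exact h3
    · exact absurd rfl hpq

theorem ln_ne (h : IsPl L) {a b c : α} (hab : a ≠ b) (hac : a ≠ c) (hc : c ∉ h.ln a b) : h.ln a b ≠ h.ln a c :=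
  fun e => hc (e ▸ h.right_mem hac)

theorem card_U3 (h : IsPl L) {a b c : α} (hab : a ≠ b) (hac : a ≠ c) (hbc : b ≠ c) (hI : h.Ind {a, b, c}) :
    (h.U3 a b c).card = 12 := by
  have hc : c ∉ h.ln a b := hI.not_mem (by simp) (by simp) (by simp) hab hac hbc
  have hb : b ∉ h.ln a c := hI.not_mem (by simp) (by simp) (by simp) hac hab hbc.symm
  have ha : a ∉ h.ln b c := hI.not_mem (by simp) (by simp) (by simp) hbc hab.symm hac.symm
  have e1 : h.ln a b ∩ h.ln a c = {a} :=
    h.inter_eq (h.ln_mem hab) (h.ln_mem hac) (h.ln_ne hab hac hc) (h.left_mem hab) (h.left_mem hac)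
  have e2 : h.ln a b ∩ h.ln b c = {b} :=
    h.inter_eq (h.ln_mem hab) (h.ln_mem hbc) (fun e => ha (e ▸ h.left_mem hab)) (h.right_mem hab) (h.left_mem hbc)
  have e3 : h.ln a c ∩ h.ln b c = {c} :=
    h.inter_eq (h.ln_mem hac) (h.ln_mem hbc) (fun e => ha (e ▸ h.left_mem hac)) (h.right_mem hac) (h.right_mem hbc)
  have c1 := h.line_card (h.ln_mem hab)
  have c2 := h.line_card (h.ln_mem hac)
  have c3 := h.line_card (h.ln_mem hbc)
  have u1 := Finset.card_union_add_card_inter (h.ln a b) (h.ln a c)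
  rw [e1, Finset.card_singleton] at u1
  have u2 := Finset.card_union_add_card_inter (h.ln a b ∪ h.ln a c) (h.ln b c)
  rw [Finset.union_inter_distrib_right, e2, e3] at u2
  have : ({b} ∪ {c} : Finset α).card = 2 := by
    rw [← Finset.insert_eq]; exact Finset.card_pair hbc
  rw [this] at u2
  rw [U3]
  omega

theorem card_ext_three (h : IsPl L) {a b c : α} (hab : a ≠ b) (hac : a ≠ c) (hbc : b ≠ c) (hI : h.Ind {a, b, c}) :
    (h.Ext {a, b, c}).card = 9 := by
  rw [h.ext_three hab hac hbc hI, Finset.card_sdiff_of_subset (Finset.subset_univ _), Finset.card_univ, h.card,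
    h.card_U3 hab hac hbc hI]

/-- a line through `a` and `d` (with `{a,b,c,d}` independent) has three points off the triangle `abc` -/
theorem card_new (h : IsPl L) {a b c d : α} (hab : a ≠ b) (hac : a ≠ c) (hbc : b ≠ c) (had : a ≠ d)
    (hc : c ∉ h.ln a b) (hd1 : d ∉ h.ln a b) (hd2 : d ∉ h.ln a c) (hd3 : d ∉ h.ln b c) :
    (h.ln a d \ h.U3 a b c).card = 3 := by
  have ha : a ∉ h.ln b c := by
    intro hmem
    apply hc
    rw [← h.eq_ln hab (h.ln_mem hbc) hmem (h.left_mem hbc)]
    exact h.right_mem hbc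
  have e1 : h.ln a d ∩ h.ln a b = {a} :=
    h.inter_eq (h.ln_mem had) (h.ln_mem hab) (fun e => hd1 (e ▸ h.right_mem had)) (h.left_mem had) (h.left_mem hab)
  have e2 : h.ln a d ∩ h.ln a c = {a} :=
    h.inter_eq (h.ln_mem had) (h.ln_mem hac) (fun e => hd2 (e ▸ h.right_mem had)) (h.left_mem had) (h.left_mem hac)
  obtain ⟨x, hx1, hx2⟩ := h.meet (h.ln_mem had) (h.ln_mem hbc)
  have e3 : h.ln a d ∩ h.ln b c = {x} :=
    h.inter_eq (h.ln_mem had) (h.ln_mem hbc) (fun e => hd3 (e ▸ h.right_mem had)) hx1 hx2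
  have e4 : h.ln a d ∩ h.U3 a b c = {a, x} := by
    rw [U3, Finset.inter_union_distrib_left, Finset.inter_union_distrib_left, e1, e2, e3, Finset.union_self]
    rfl
  have hax : a ≠ x := fun e => ha (e ▸ hx2)
  have := Finset.card_sdiff_add_card_inter (h.ln a d) (h.U3 a b c)
  rw [e4, Finset.card_pair hax, h.line_card (h.ln_mem had)] at this
  omega

theorem mem_ext_four (h : IsPl L) {a b c d : α} (hab : a ≠ b) (hac : a ≠ c) (hbc : b ≠ c)
    (had : a ≠ d) (hbd : b ≠ d) (hcd : c ≠ d) (hI : h.Ind {a, b, c, d}) (x : α) :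
    x ∈ h.Ext {a, b, c, d} ↔ (x ∉ h.ln a b ∧ x ∉ h.ln a c ∧ x ∉ h.ln b c) ∧ (x ∉ h.ln a d ∧ x ∉ h.ln b d ∧ x ∉ h.ln c d) := by
  rw [mem_Ext]
  constructor
  · rintro ⟨hx, hI'⟩
    have := (ind_insert_iff hI hx).1 hI'
    exact ⟨⟨this a (by simp) b (by simp) hab, this a (by simp) c (by simp) hac, this b (by simp) c (by simp) hbc⟩,
      ⟨this a (by simp) d (by simp) had, this b (by simp) d (by simp) hbd, this c (by simp) d (by simp) hcd⟩⟩
  · rintro ⟨⟨h1, h2, h3⟩, h4, h5, h6⟩
    have hx' : x ∉ ({a, b, c, d} : Finset α) := by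
      intro hmem
      simp only [Finset.mem_insert, Finset.mem_singleton] at hmem
      rcases hmem with rfl | rfl | rfl | rfl
      · exact h1 (h.left_mem hab)
      · exact h1 (h.right_mem hab)
      · exact h2 (h.right_mem hac)
      · exact h4 (h.right_mem had)
    refine ⟨hx', (ind_insert_iff hI hx').2 ?_⟩
    intro p hp q hq hpq
    simp only [Finset.mem_insert, Finset.mem_singleton] at hp hq
    rcases hp with rfl | rfl | rfl | rfl <;> rcases hq with rfl | rfl | rfl | rfl <;>
      first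
        | exact absurd rfl hpq
        | assumption
        | (rw [h.ln_comm hpq]; assumption)

theorem card_ext_four (h : IsPl L) {a b c d : α} (hab : a ≠ b) (hac : a ≠ c) (hbc : b ≠ c)
    (had : a ≠ d) (hbd : b ≠ d) (hcd : c ≠ d) (hI : h.Ind {a, b, c, d}) :
    (h.Ext {a, b, c, d}).card = 2 := by
  have hI3 : h.Ind {a, b, c} := hI.mono (by intro x; simp; tauto)
  have hc : c ∉ h.ln a b := hI.not_mem (by simp) (by simp) (by simp) hab hac hbc
  have hd1 : d ∉ h.ln a b := hI.not_mem (by simp) (by simp) (by simp) hab had hbd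
  have hd2 : d ∉ h.ln a c := hI.not_mem (by simp) (by simp) (by simp) hac had hcd
  have hd3 : d ∉ h.ln b c := hI.not_mem (by simp) (by simp) (by simp) hbc hbd hcd
  have hab' := h.ln_comm hab
  have hac' := h.ln_comm hac
  have hbc' := h.ln_comm hbc
  have hUb : h.U3 b a c = h.U3 a b c := by
    rw [U3, U3, ← hab']; ext x; simp only [Finset.mem_union]; tauto
  have hUc : h.U3 c a b = h.U3 a b c := by
    rw [U3, U3, ← hac', ← hbc']; ext x; simp only [Finset.mem_union]; tauto
  have n1 := h.card_new hab hac hbc had hc hd1 hd2 hd3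
  have n2 := h.card_new hab.symm hbc hac hbd (by rw [← hab']; exact hc) (by rw [← hab']; exact hd1) hd3 hd2
  have n3 := h.card_new hac.symm hbc.symm hab hcd
    (by
      rw [← hac']
      exact hI.not_mem (by simp) (by simp) (by simp) hac hab hbc.symm) (by rw [← hac']; exact hd2) (by rw [← hbc']; exact hd3) hd1
  rw [hUb] at n2
  rw [hUc] at n3
  have hdU : d ∉ h.U3 a b c := by
    rw [U3, Finset.mem_union, Finset.mem_union]; tauto
  have hb_ad : b ∉ h.ln a d := hI.not_mem (by simp) (by simp) (by simp) had hab hbd.symm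
  have hc_ad : c ∉ h.ln a d := hI.not_mem (by simp) (by simp) (by simp) had hac hcd.symm
  have hc_bd : c ∉ h.ln b d := hI.not_mem (by simp) (by simp) (by simp) hbd hbc hcd.symm
  have i1 : (h.ln a d \ h.U3 a b c) ∩ (h.ln b d \ h.U3 a b c) = {d} := by
    have e : h.ln a d ∩ h.ln b d = {d} :=
      h.inter_eq (h.ln_mem had) (h.ln_mem hbd) (fun e => hb_ad (e ▸ h.left_mem hbd)) (h.right_mem had) (h.right_mem hbd)
    ext x
    have := congrArg (fun s => x ∈ s) e
    simp only [Finset.mem_inter, Finset.mem_singleton, eq_iff_iff] at this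
    simp only [Finset.mem_inter, Finset.mem_sdiff, Finset.mem_singleton]
    constructor
    · rintro ⟨⟨h1, h2⟩, h3, h4⟩; exact this.1 ⟨h1, h3⟩
    · rintro rfl; exact ⟨⟨h.right_mem had, hdU⟩, h.right_mem hbd, hdU⟩
  have i2 : (h.ln a d \ h.U3 a b c) ∩ (h.ln c d \ h.U3 a b c) = {d} := by
    have e : h.ln a d ∩ h.ln c d = {d} :=
      h.inter_eq (h.ln_mem had) (h.ln_mem hcd) (fun e => hc_ad (e ▸ h.left_mem hcd)) (h.right_mem had) (h.right_mem hcd)
    ext x
    have := congrArg (fun s => x ∈ s) e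
    simp only [Finset.mem_inter, Finset.mem_singleton, eq_iff_iff] at this
    simp only [Finset.mem_inter, Finset.mem_sdiff, Finset.mem_singleton]
    constructor
    · rintro ⟨⟨h1, h2⟩, h3, h4⟩; exact this.1 ⟨h1, h3⟩
    · rintro rfl; exact ⟨⟨h.right_mem had, hdU⟩, h.right_mem hcd, hdU⟩
  have i3 : (h.ln b d \ h.U3 a b c) ∩ (h.ln c d \ h.U3 a b c) = {d} := by
    have e : h.ln b d ∩ h.ln c d = {d} :=
      h.inter_eq (h.ln_mem hbd) (h.ln_mem hcd) (fun e => hc_bd (e ▸ h.left_mem hcd)) (h.right_mem hbd) (h.right_mem hcd)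
    ext x
    have := congrArg (fun s => x ∈ s) e
    simp only [Finset.mem_inter, Finset.mem_singleton, eq_iff_iff] at this
    simp only [Finset.mem_inter, Finset.mem_sdiff, Finset.mem_singleton]
    constructor
    · rintro ⟨⟨h1, h2⟩, h3, h4⟩; exact this.1 ⟨h1, h3⟩
    · rintro rfl; exact ⟨⟨h.right_mem hbd, hdU⟩, h.right_mem hcd, hdU⟩
  set A := h.ln a d \ h.U3 a b c with hA
  set B := h.ln b d \ h.U3 a b c with hB
  set D := h.ln c d \ h.U3 a b c with hD
  have u1 := Finset.card_union_add_card_inter A B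
  rw [i1, Finset.card_singleton] at u1
  have u2 := Finset.card_union_add_card_inter (A ∪ B) D
  rw [Finset.union_inter_distrib_right, i2, i3, Finset.union_self, Finset.card_singleton] at u2
  have hdis : Disjoint (h.U3 a b c) (A ∪ B ∪ D) := by
    rw [Finset.disjoint_left]
    intro x hx hx'
    simp only [hA, hB, hD, Finset.mem_union, Finset.mem_sdiff, hx, not_true, and_false, or_self] at hx'
  have hext : h.Ext {a, b, c, d} = Finset.univ \ (h.U3 a b c ∪ (A ∪ B ∪ D)) := by
    ext x
    rw [h.mem_ext_four hab hac hbc had hbd hcd hI]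
    have hU : (x ∉ h.ln a b ∧ x ∉ h.ln a c ∧ x ∉ h.ln b c) ↔ x ∉ h.U3 a b c := by
      simp only [U3, Finset.mem_union, not_or, and_assoc]
    rw [hU]
    simp only [hA, hB, hD, Finset.mem_union, Finset.mem_sdiff, Finset.mem_univ, true_and]
    by_cases hx : x ∈ h.U3 a b c
    · simp [hx]
    · simp only [hx, not_false_eq_true, true_and, and_true, false_or, not_or, and_assoc]
  rw [hext, Finset.card_sdiff_of_subset (Finset.subset_univ _), Finset.card_union_of_disjoint hdis, Finset.card_univ,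
    h.card, h.card_U3 hab hac hbc hI3]
  omega

/-- for two extension points `e, f` of an independent quadruple, `f` is not on the line `a e` -/
theorem ext_four_aux (h : IsPl L) {a b c d e f : α} (hab : a ≠ b) (hac : a ≠ c) (hbc : b ≠ c)
    (had : a ≠ d) (hbd : b ≠ d) (hcd : c ≠ d) (hI : h.Ind {a, b, c, d})
    (he : e ∈ h.Ext {a, b, c, d}) (hf : f ∈ h.Ext {a, b, c, d}) (hef : e ≠ f) (hae : a ≠ e) : f ∉ h.ln a e := by
  have he' := (h.mem_ext_four hab hac hbc had hbd hcd hI e).1 he
  have hf' := (h.mem_ext_four hab hac hbc had hbd hcd hI f).1 hf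
  obtain ⟨⟨e1, e2, e3⟩, e4, e5, e6⟩ := he'
  obtain ⟨⟨f1, f2, f3⟩, f4, f5, f6⟩ := hf'
  have haf : a ≠ f := fun e => f1 (e ▸ h.left_mem hab)
  obtain ⟨x, hx1, hx2⟩ := h.meet (h.ln_mem hae) (h.ln_mem hbc)
  obtain ⟨y, hy1, hy2⟩ := h.meet (h.ln_mem hae) (h.ln_mem hbd)
  obtain ⟨z, hz1, hz2⟩ := h.meet (h.ln_mem hae) (h.ln_mem hcd)
  have ha_bc : a ∉ h.ln b c := hI.not_mem (by simp) (by simp) (by simp) hbc hab.symm hac.symm
  have ha_bd : a ∉ h.ln b d := hI.not_mem (by simp) (by simp) (by simp) hbd hab.symm had.symm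
  have ha_cd : a ∉ h.ln c d := hI.not_mem (by simp) (by simp) (by simp) hcd hac.symm had.symm
  have hd_bc : d ∉ h.ln b c := hI.not_mem (by simp) (by simp) (by simp) hbc hbd hcd
  have hb_cd : b ∉ h.ln c d := hI.not_mem (by simp) (by simp) (by simp) hcd hbc.symm hbd.symm
  -- b, c, d not on ln a e
  have hb_ae : b ∉ h.ln a e := fun hm => e1 (by
    rw [← h.eq_ln hab (h.ln_mem hae) (h.left_mem hae) hm]; exact h.right_mem hae)
  have hc_ae : c ∉ h.ln a e := fun hm => e2 (by
    rw [← h.eq_ln hac (h.ln_mem hae) (h.left_mem hae) hm]; exact h.right_mem hae)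
  have hd_ae : d ∉ h.ln a e := fun hm => e4 (by
    rw [← h.eq_ln had (h.ln_mem hae) (h.left_mem hae) hm]; exact h.right_mem hae)
  have hxy : x ≠ y := by
    rintro rfl
    have : x = b := h.pt_eq (h.ln_mem hbc) (h.ln_mem hbd) (fun e => hd_bc (e ▸ h.right_mem hbd)) hx2 (h.left_mem hbc) hy2 (h.left_mem hbd)
    exact hb_ae (this ▸ hx1)
  have hxz : x ≠ z := by
    rintro rfl
    have : x = c := h.pt_eq (h.ln_mem hbc) (h.ln_mem hcd) (fun e => hd_bc (e ▸ h.right_mem hcd)) hx2 (h.right_mem hbc) hz2 (h.left_mem hcd)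
    exact hc_ae (this ▸ hx1)
  have hyz : y ≠ z := by
    rintro rfl
    have : y = d := h.pt_eq (h.ln_mem hbd) (h.ln_mem hcd) (fun e => hb_cd (e ▸ h.left_mem hbd)) hy2 (h.right_mem hbd) hz2 (h.right_mem hcd)
    exact hd_ae (this ▸ hy1)
  have hax : a ≠ x := fun e => ha_bc (e ▸ hx2)
  have hay : a ≠ y := fun e => ha_bd (e ▸ hy2)
  have haz : a ≠ z := fun e => ha_cd (e ▸ hz2)
  have hex : e ≠ x := fun e' => e3 (e' ▸ hx2)
  have hey : e ≠ y := fun e' => e5 (e' ▸ hy2)
  have hez : e ≠ z := fun e' => e6 (e' ▸ hz2)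
  have hfx : f ≠ x := fun e' => f3 (e' ▸ hx2)
  have hfy : f ≠ y := fun e' => f5 (e' ▸ hy2)
  have hfz : f ≠ z := fun e' => f6 (e' ▸ hz2)
  intro hfm
  have hsub : ({f, a, e, x, y, z} : Finset α) ⊆ h.ln a e := by
    intro t ht
    simp only [Finset.mem_insert, Finset.mem_singleton] at ht
    rcases ht with rfl | rfl | rfl | rfl | rfl | rfl
    · exact hfm
    · exact h.left_mem hae
    · exact h.right_mem hae
    · exact hx1
    · exact hy1
    · exact hz1
  have hc6 : ({f, a, e, x, y, z} : Finset α).card = 6 := by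
    rw [Finset.card_insert_of_notMem, Finset.card_insert_of_notMem, Finset.card_insert_of_notMem,
      Finset.card_insert_of_notMem, Finset.card_insert_of_notMem, Finset.card_singleton]
    all_goals simp only [Finset.mem_insert, Finset.mem_singleton]; tauto
  have := Finset.card_le_card hsub
  rw [hc6, h.line_card (h.ln_mem hae)] at this
  omega

end IsPl

end Cfsg.Agent.H93
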