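import Mathlib
import Cfsg.Prelude.Def_Sporadic_a
import Cfsg.Agent.H93.Plane4Hyp

set_option autoImplicit false
set_option linter.unusedSectionVars false

/-!
Projective planes of order 4: existence and number of hyperovals.
-/

namespace Cfsg.Agent.H93

variable {α : Type*} [Fintype α] [DecidableEq α] {L : Set (Finset α)}

namespace IsPl

theorem exists_four_of_mem {S : Finset α} (hS : S.card = 4) {p : α} (hp : p ∈ S) :
    ∃ b c d, p ≠ b ∧ p ≠ c ∧ b ≠ c ∧ p ≠ d ∧ b ≠ d ∧ c ≠ d ∧ S = {p, b, c, d} := by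
  have h3 : (S.erase p).card = 3 := by rw [Finset.card_erase_of_mem hp, hS]
  obtain ⟨b, c, d, hbc, hbd, hcd, he⟩ := Finset.card_eq_three.1 h3
  have hb : b ∈ S.erase p := by rw [he]; simp
  have hc : c ∈ S.erase p := by rw [he]; simp
  have hd : d ∈ S.erase p := by rw [he]; simp
  refine ⟨b, c, d, (Finset.ne_of_mem_erase hb).symm, (Finset.ne_of_mem_erase hc).symm, hbc,
    (Finset.ne_of_mem_erase hd).symm, hbd, hcd, ?_⟩
  rw [← he, Finset.insert_erase hp]

theorem ext_aux (h : IsPl L) {S : Finset α} (hS : S.card = 4) (hI : h.Ind S) {e f p : α} (he : e ∈ h.Ext S)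
    (hf : f ∈ h.Ext S) (hef : e ≠ f) (hp : p ∈ S) : f ∉ h.ln p e := by
  obtain ⟨b, c, d, h1, h2, h3, h4, h5, h6, rfl⟩ := exists_four_of_mem hS hp
  refine h.ext_four_aux h1 h2 h3 h4 h5 h6 hI he hf hef ?_
  intro e'
  exact (mem_Ext.1 he).1 (e' ▸ hp)

theorem card_ext_of_four (h : IsPl L) {S : Finset α} (hS : S.card = 4) (hI : h.Ind S) : (h.Ext S).card = 2 := by
  obtain ⟨p, hp⟩ : S.Nonempty := by rw [← Finset.card_pos, hS]; norm_num
  obtain ⟨b, c, d, h1, h2, h3, h4, h5, h6, rfl⟩ := exists_four_of_mem hS hp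
  exact h.card_ext_four h1 h2 h3 h4 h5 h6 hI

theorem card_ext_of_three (h : IsPl L) {S : Finset α} (hS : S.card = 3) (hI : h.Ind S) : (h.Ext S).card = 9 := by
  obtain ⟨a, b, c, h1, h2, h3, rfl⟩ := Finset.card_eq_three.1 hS
  exact h.card_ext_three h1 h2 h3 hI

theorem card_ext_of_two (h : IsPl L) {S : Finset α} (hS : S.card = 2) : (h.Ext S).card = 16 := by
  obtain ⟨a, b, h1, rfl⟩ := Finset.card_eq_two.1 hS
  exact h.card_ext_two h1

/-- the hyperoval through an independent quadruple -/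
theorem hyper (h : IsPl L) {S : Finset α} (hS : S.card = 4) (hI : h.Ind S) :
    (S ∪ h.Ext S).card = 6 ∧ h.Ind (S ∪ h.Ext S) := by
  have hdis : Disjoint S (h.Ext S) := by
    rw [Finset.disjoint_right]
    intro x hx
    exact (mem_Ext.1 hx).1
  refine ⟨by rw [Finset.card_union_of_disjoint hdis, hS, h.card_ext_of_four hS hI], ?_⟩
  obtain ⟨e, f, hef, hE⟩ := Finset.card_eq_two.1 (h.card_ext_of_four hS hI)
  have he : e ∈ h.Ext S := by rw [hE]; simp
  have hf : f ∈ h.Ext S := by rw [hE]; simp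
  obtain ⟨heS, heI⟩ := mem_Ext.1 he
  obtain ⟨hfS, hfI⟩ := mem_Ext.1 hf
  have : S ∪ h.Ext S = insert f (insert e S) := by
    rw [hE]; ext x; simp only [Finset.mem_union, Finset.mem_insert, Finset.mem_singleton]; tauto
  rw [this]
  have hf' : f ∉ insert e S := by
    rw [Finset.mem_insert]
    rintro (h1 | h1)
    · exact hef h1.symm
    · exact hfS h1
  rw [ind_insert_iff heI hf']
  have hfS' := (ind_insert_iff hI hfS).1 hfI
  intro p hp q hq hpq
  rw [Finset.mem_insert] at hp hq
  rcases hp with rfl | hp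
  · rcases hq with rfl | hq
    · exact absurd rfl hpq
    · rw [h.ln_comm hpq]; exact h.ext_aux hS hI he hf hef hq
  · rcases hq with rfl | hq
    · exact h.ext_aux hS hI he hf hef hp
    · exact hfS' p hp q hq hpq

theorem hyper_unique (h : IsPl L) {S : Finset α} (hS : S.card = 4) (hI : h.Ind S) {H : Finset α} (hH : H.card = 6)
    (hHI : h.Ind H) (hSH : S ⊆ H) : H = S ∪ h.Ext S := by
  have hsub : H ⊆ S ∪ h.Ext S := by
    intro x hx
    by_cases hxS : x ∈ S
    · exact Finset.mem_union_left _ hxS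
    · apply Finset.mem_union_right
      rw [mem_Ext]
      refine ⟨hxS, hHI.mono ?_⟩
      rw [Finset.insert_subset_iff]
      exact ⟨hx, hSH⟩
  exact Finset.eq_of_subset_of_card_le hsub (by rw [(h.hyper hS hI).1, hH])

open Classical in
/-- independent sets of a given size -/
noncomputable def I (h : IsPl L) (k : ℕ) : Finset (Finset α) := Finset.univ.filter fun S => S.card = k ∧ h.Ind S

theorem mem_I {h : IsPl L} {k : ℕ} {S : Finset α} : S ∈ h.I k ↔ S.card = k ∧ h.Ind S := by simp [I]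

open Classical in
theorem count_up (h : IsPl L) (k m c : ℕ) (hup : ∀ S ∈ h.I k, ((h.I m).filter fun T => S ⊆ T).card = c) :
    m.choose k * (h.I m).card = c * (h.I k).card := by
  have key := Finset.sum_card_bipartiteAbove_eq_sum_card_bipartiteBelow (s := h.I k) (t := h.I m)
    (fun S T : Finset α => S ⊆ T)
  have h1 : ∀ S ∈ h.I k, (Finset.bipartiteAbove (fun S T : Finset α => S ⊆ T) (h.I m) S).card = c := by
    intro S hS
    exact hup S hS
  have h2 : ∀ T ∈ h.I m, (Finset.bipartiteBelow (fun S T : Finset α => S ⊆ T) (h.I k) T).card = m.choose k := by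
    intro T hT
    rw [mem_I] at hT
    rw [← hT.1, ← Finset.card_powersetCard]
    congr 1
    ext S
    rw [Finset.bipartiteBelow, Finset.mem_filter, mem_I, Finset.mem_powersetCard]
    constructor
    · rintro ⟨⟨h1, h2⟩, h3⟩; exact ⟨h3, h1⟩
    · rintro ⟨h1, h2⟩; exact ⟨⟨h2, hT.2.mono h1⟩, h1⟩
  rw [Finset.sum_congr rfl h1, Finset.sum_congr rfl h2, Finset.sum_const, Finset.sum_const, smul_eq_mul, smul_eq_mul] at key
  rw [mul_comm, ← key, mul_comm]

open Classical in
theorem card_up_one (h : IsPl L) (k : ℕ) {S : Finset α} (hS : S ∈ h.I k) :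
    ((h.I (k + 1)).filter fun T => S ⊆ T).card = (h.Ext S).card := by
  rw [mem_I] at hS
  have : ((h.I (k + 1)).filter fun T => S ⊆ T) = (h.Ext S).image fun x => insert x S := by
    ext T
    rw [Finset.mem_filter, mem_I, Finset.mem_image]
    constructor
    · rintro ⟨⟨h1, h2⟩, h3⟩
      obtain ⟨x, hx, hxT⟩ := Finset.exists_eq_insert_iff.2 ⟨h3, by rw [hS.1, h1]⟩
      refine ⟨x, ?_, hxT⟩
      rw [mem_Ext, hxT]
      exact ⟨hx, h2⟩
    · rintro ⟨x, hx, rfl⟩
      rw [mem_Ext] at hx
      exact ⟨⟨by rw [Finset.card_insert_of_notMem hx.1, hS.1], hx.2⟩, Finset.subset_insert _ _⟩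
  rw [this, Finset.card_image_of_injOn]
  intro x hx y hy hxy
  simp only at hxy
  have hx' := (mem_Ext.1 (Finset.mem_coe.1 hx)).1
  have : x ∈ insert y S := by rw [← hxy]; exact Finset.mem_insert_self _ _
  rw [Finset.mem_insert] at this
  rcases this with h1 | h1
  · exact h1
  · exact absurd h1 hx'

open Classical in
theorem card_I2 (h : IsPl L) : (h.I 2).card = 210 := by
  have : h.I 2 = Finset.powersetCard 2 Finset.univ := by
    ext S
    rw [mem_I, Finset.mem_powersetCard]
    constructor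
    · rintro ⟨h1, h2⟩; exact ⟨Finset.subset_univ _, h1⟩
    · rintro ⟨h1, h2⟩
      obtain ⟨a, b, hab, rfl⟩ := Finset.card_eq_two.1 h2
      exact ⟨h2, h.ind_pair a b⟩
  rw [this, Finset.card_powersetCard, Finset.card_univ, h.card]
  rfl

open Classical in
theorem card_I3 (h : IsPl L) : (h.I 3).card = 1120 := by
  have := h.count_up 2 3 16 (fun S hS => by
    rw [h.card_up_one 2 hS, h.card_ext_of_two (mem_I.1 hS).1])
  rw [h.card_I2] at this
  have e : Nat.choose 3 2 = 3 := rfl
  rw [e] at this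
  omega

open Classical in
theorem card_I4 (h : IsPl L) : (h.I 4).card = 2520 := by
  have := h.count_up 3 4 9 (fun S hS => by
    rw [h.card_up_one 3 hS, h.card_ext_of_three (mem_I.1 hS).1 (mem_I.1 hS).2])
  rw [h.card_I3] at this
  have e : Nat.choose 4 3 = 4 := rfl
  rw [e] at this
  omega

open Classical in
theorem card_I6 (h : IsPl L) : (h.I 6).card = 168 := by
  have := h.count_up 4 6 1 (fun S hS => by
    rw [mem_I] at hS
    rw [Finset.card_eq_one]
    refine ⟨S ∪ h.Ext S, ?_⟩
    ext T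
    rw [Finset.mem_filter, mem_I, Finset.mem_singleton]
    constructor
    · rintro ⟨⟨h1, h2⟩, h3⟩
      exact h.hyper_unique hS.1 hS.2 h1 h2 h3
    · rintro rfl
      exact ⟨h.hyper hS.1 hS.2, Finset.subset_union_left⟩)
  rw [h.card_I4] at this
  have e : Nat.choose 6 4 = 15 := rfl
  rw [e] at this
  omega

/-- there is a hyperoval -/
theorem exists_hyper (h : IsPl L) : ∃ H : Finset α, H.card = 6 ∧ h.Ind H := by
  have : (h.I 6).Nonempty := by rw [← Finset.card_pos, h.card_I6]; norm_num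
  obtain ⟨H, hH⟩ := this
  exact ⟨H, mem_I.1 hH⟩

end IsPl

end Cfsg.Agent.H93
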