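import Mathlib
import Cfsg.Prelude.Def_Sporadic_a
import Cfsg.Agent.H93.Plane4Count

set_option autoImplicit false
set_option linter.unusedSectionVars false

/-!
Projective planes of order 4: reconstruction from a hyperoval (points: the six points and the fifteen synthemes;
lines: the fifteen duads and the six totals).
-/

namespace Cfsg.Agent.H93

/-- the fifteen fixed point free involutions of six letters -/
def tau : Fin 15 → Fin 6 → Fin 6 :=
  ![![1, 0, 3, 2, 5, 4], ![1, 0, 4, 5, 2, 3], ![1, 0, 5, 4, 3, 2], ![2, 3, 0, 1, 5, 4], ![2, 4, 0, 5, 1, 3],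
    ![2, 5, 0, 4, 3, 1], ![3, 2, 1, 0, 5, 4], ![3, 4, 5, 0, 1, 2], ![3, 5, 4, 0, 2, 1], ![4, 2, 1, 5, 0, 3],
    ![4, 3, 5, 1, 0, 2], ![4, 5, 3, 2, 0, 1], ![5, 2, 1, 4, 3, 0], ![5, 3, 4, 1, 2, 0], ![5, 4, 3, 2, 1, 0]]

/-- the six totals -/
def tot : Fin 6 → Finset (Fin 15) :=
  ![{0, 4, 8, 10, 12}, {0, 5, 7, 9, 13}, {1, 3, 7, 11, 12}, {1, 5, 6, 10, 14}, {2, 3, 8, 9, 14}, {2, 4, 6, 11, 13}]

/-- first two members of each total -/
def tot0 : Fin 6 → Fin 15 := ![0, 0, 1, 1, 2, 2]
/-- second member -/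
def tot1 : Fin 6 → Fin 15 := ![4, 5, 3, 5, 3, 4]

/-- a letter outside the first duad -/
def bb (s : Fin 15) : Fin 6 := if tau s 0 = 1 then 2 else 1

theorem tau_ne (s : Fin 15) (i : Fin 6) : tau s i ≠ i := by revert s i; decide
theorem tau_tau (s : Fin 15) (i : Fin 6) : tau s (tau s i) = i := by revert s i; decide
theorem bb_ne0 (s : Fin 15) : bb s ≠ 0 := by revert s; decide
theorem bb_ne1 (s : Fin 15) : bb s ≠ tau s 0 := by revert s; decide
theorem tbb_ne0 (s : Fin 15) : tau s (bb s) ≠ 0 := by revert s; decide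
theorem tbb_ne1 (s : Fin 15) : tau s (bb s) ≠ tau s 0 := by revert s; decide
theorem tau_last (s : Fin 15) (d x : Fin 6) (h1 : d ≠ 0) (h2 : d ≠ tau s 0) (h3 : d ≠ bb s) (h4 : d ≠ tau s (bb s))
    (g1 : x ≠ 0) (g2 : x ≠ tau s 0) (g3 : x ≠ bb s) (g4 : x ≠ tau s (bb s)) (g5 : x ≠ d) : x = tau s d := by
  revert s d x; decide
theorem tau_inj (s t : Fin 15) (h : ∀ i, tau s i = tau t i) : s = t := by
  revert s t; decide

/-- disjoint synthemes -/
abbrev dj (s t : Fin 15) : Prop := ∀ i, tau s i ≠ tau t i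

theorem tot0_mem (k : Fin 6) : tot0 k ∈ tot k := by revert k; decide
theorem tot1_mem (k : Fin 6) : tot1 k ∈ tot k := by revert k; decide
theorem tot_card (k : Fin 6) : (tot k).card = 5 := by revert k; decide
theorem tot01 (k : Fin 6) : dj (tot0 k) (tot1 k) := by revert k; decide
theorem tot_max (k : Fin 6) (u w : Fin 15) (hu : u ∉ tot k) (h0 : dj u (tot0 k)) (h1 : dj u (tot1 k))
    (g0 : dj w (tot0 k)) (g1 : dj w (tot1 k)) (g2 : dj w u) : False := by
  revert k u w; decide
theorem tot_exists (s t : Fin 15) (h : dj s t) : ∃ k, s ∈ tot k ∧ t ∈ tot k := by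
  revert s t; decide
theorem duad_card (i j : Fin 6) (hij : i ≠ j) : (Finset.univ.filter fun s => tau s i = j).card = 3 := by
  revert i j; decide

variable {α : Type*} [Fintype α] [DecidableEq α] {L : Set (Finset α)}

/-- an enumerated hyperoval -/
structure IsHyp (h : IsPl L) (v : Fin 6 → α) : Prop where
  inj : Function.Injective v
  ind : h.Ind (Finset.univ.image v)

namespace IsHyp

open IsPl

variable {h : IsPl L} {v : Fin 6 → α}

theorem ne (H : IsHyp h v) {i j : Fin 6} (hij : i ≠ j) : v i ≠ v j := fun e => hij (H.inj e)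

theorem mem_img (i : Fin 6) : v i ∈ Finset.univ.image v := Finset.mem_image_of_mem _ (Finset.mem_univ _)

theorem mem_ln_iff (H : IsHyp h v) {i j k : Fin 6} (hij : i ≠ j) : v k ∈ h.ln (v i) (v j) ↔ k = i ∨ k = j := by
  constructor
  · intro hk
    by_contra hcon
    push Not at hcon
    exact H.ind.not_mem (mem_img i) (mem_img j) (mem_img k) (H.ne hij) (H.ne hcon.1.symm) (H.ne hcon.2.symm) hk
  · rintro (rfl | rfl)
    · exact h.left_mem (H.ne hij)
    · exact h.right_mem (H.ne hij)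

open Classical in
/-- a line through a point of the hyperoval meets it again -/
theorem second (H : IsHyp h v) (i : Fin 6) {m : Finset α} (hm : m ∈ L) (him : v i ∈ m) : ∃ j, i ≠ j ∧ m = h.ln (v i) (v j) := by
  let Lp := Finset.univ.filter fun l : Finset α => l ∈ L ∧ v i ∈ l
  let J : Finset (Fin 6) := Finset.univ.erase i
  have hJ : ∀ j ∈ J, i ≠ j := fun j hj => (Finset.ne_of_mem_erase hj).symm
  have hmaps : ∀ j ∈ J, h.ln (v i) (v j) ∈ Lp := fun j hj => by
    simp only [Lp, Finset.mem_filter, Finset.mem_univ, true_and]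
    exact ⟨h.ln_mem (H.ne (hJ j hj)), h.left_mem (H.ne (hJ j hj))⟩
  have hinj : Set.InjOn (fun j => h.ln (v i) (v j)) J := by
    intro j hj k hk hjk
    have hjk' : h.ln (v i) (v j) = h.ln (v i) (v k) := hjk
    have : v k ∈ h.ln (v i) (v j) := by rw [hjk']; exact h.right_mem (H.ne (hJ k hk))
    rcases (H.mem_ln_iff (hJ j hj)).1 this with h1 | h1
    · exact absurd h1.symm (hJ k hk)
    · exact h1.symm
  have hcJ : J.card = 5 := by
    simp [J, Finset.card_erase_of_mem]
  have hsurj := Finset.surjOn_of_injOn_of_card_le (fun j => h.ln (v i) (v j)) (fun x hx => hmaps x hx) hinj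
    (by rw [h.card_thru (v i), hcJ])
  have hmL : m ∈ (Lp : Set (Finset α)) := by
    simp only [Lp, Finset.coe_filter, Finset.mem_univ, true_and, Set.mem_ofPred_eq]
    exact ⟨hm, him⟩
  obtain ⟨j, hj, hjm⟩ := hsurj hmL
  exact ⟨j, hJ j hj, hjm.symm⟩

/-- the point attached to a syntheme -/
noncomputable def P (_ : IsHyp h v) (s : Fin 15) : α :=
  open Classical in
  if hh : ∃ x, x ∈ h.ln (v 0) (v (tau s 0)) ∧ x ∈ h.ln (v (bb s)) (v (tau s (bb s))) then hh.choose else v 0

theorem P_spec (H : IsHyp h v) (s : Fin 15) :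
    H.P s ∈ h.ln (v 0) (v (tau s 0)) ∧ H.P s ∈ h.ln (v (bb s)) (v (tau s (bb s))) := by
  have hh : ∃ x, x ∈ h.ln (v 0) (v (tau s 0)) ∧ x ∈ h.ln (v (bb s)) (v (tau s (bb s))) :=
    h.meet (h.ln_mem (H.ne (tau_ne s 0).symm)) (h.ln_mem (H.ne (tau_ne s (bb s)).symm))
  rw [P, dif_pos hh]
  exact hh.choose_spec

theorem P_ne (H : IsHyp h v) (s : Fin 15) (i : Fin 6) : H.P s ≠ v i := by
  intro e
  obtain ⟨h1, h2⟩ := H.P_spec s
  rw [e] at h1 h2
  rcases (H.mem_ln_iff (tau_ne s 0).symm).1 h1 with g1 | g1 <;> rcases (H.mem_ln_iff (tau_ne s (bb s)).symm).1 h2 with g2 | g2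
  · exact bb_ne0 s (g2.symm.trans g1)
  · exact tbb_ne0 s (g2.symm.trans g1)
  · exact bb_ne1 s (g2.symm.trans g1)
  · exact tbb_ne1 s (g2.symm.trans g1)

/-- the syntheme point lies on each of its duads -/
theorem P_mem (H : IsHyp h v) (s : Fin 15) (i : Fin 6) : H.P s ∈ h.ln (v i) (v (tau s i)) := by
  obtain ⟨h1, h2⟩ := H.P_spec s
  by_cases hi0 : i = 0
  · subst hi0; exact h1
  by_cases hi1 : i = tau s 0
  · subst hi1
    rw [tau_tau, h.ln_comm (H.ne (tau_ne s 0))]; exact h1
  by_cases hi2 : i = bb s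
  · subst hi2; exact h2
  by_cases hi3 : i = tau s (bb s)
  · subst hi3
    rw [tau_tau, h.ln_comm (H.ne (tau_ne s (bb s)))]; exact h2
  -- the line through P and v i
  have hne : H.P s ≠ v i := H.P_ne s i
  obtain ⟨x, hx, hm⟩ := H.second i (h.ln_mem hne) (h.right_mem hne)
  have hP : H.P s ∈ h.ln (v i) (v x) := by rw [← hm]; exact h.left_mem hne
  have hxi : ∀ j, i ≠ j → i ≠ tau s j → H.P s ∈ h.ln (v j) (v (tau s j)) → x ≠ j := by
    intro j hij hij' hPj hxj
    subst hxj
    -- line (v i)(v x) and line (v x)(v tau x) share v x and P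
    have : h.ln (v i) (v x) = h.ln (v x) (v (tau s x)) :=
      h.line_eq (h.ln_mem (H.ne hx)) (h.ln_mem (H.ne (tau_ne s x).symm)) (H.P_ne s x).symm (h.right_mem (H.ne hx)) hP
        (h.left_mem (H.ne (tau_ne s x).symm)) hPj
    have hvi : v i ∈ h.ln (v x) (v (tau s x)) := by rw [← this]; exact h.left_mem (H.ne hx)
    rcases (H.mem_ln_iff (tau_ne s x).symm).1 hvi with g | g
    · exact hij g
    · exact hij' g
  have h1' : H.P s ∈ h.ln (v (tau s 0)) (v (tau s (tau s 0))) := by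
    rw [tau_tau, h.ln_comm (H.ne (tau_ne s 0))]; exact h1
  have h2' : H.P s ∈ h.ln (v (tau s (bb s))) (v (tau s (tau s (bb s)))) := by
    rw [tau_tau, h.ln_comm (H.ne (tau_ne s (bb s)))]; exact h2
  have e := tau_last s i x hi0 hi1 hi2 hi3 (hxi 0 hi0 hi1 h1) (hxi _ hi1 (by rw [tau_tau]; exact hi0) h1')
    (hxi _ hi2 hi3 h2) (hxi _ hi3 (by rw [tau_tau]; exact hi2) h2') hx.symm
  rw [← e]; exact hP

theorem P_mem_iff (H : IsHyp h v) (s : Fin 15) {i j : Fin 6} (hij : i ≠ j) : H.P s ∈ h.ln (v i) (v j) ↔ tau s i = j := by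
  constructor
  · intro hP
    have : h.ln (v i) (v j) = h.ln (v i) (v (tau s i)) :=
      h.line_eq (h.ln_mem (H.ne hij)) (h.ln_mem (H.ne (tau_ne s i).symm)) (H.P_ne s i).symm (h.left_mem (H.ne hij)) hP
        (h.left_mem (H.ne (tau_ne s i).symm)) (H.P_mem s i)
    have hv : v (tau s i) ∈ h.ln (v i) (v j) := by rw [this]; exact h.right_mem (H.ne (tau_ne s i).symm)
    rcases (H.mem_ln_iff hij).1 hv with g | g
    · exact absurd g (tau_ne s i)
    · exact g
  · rintro rfl
    exact H.P_mem s i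

theorem P_inj (H : IsHyp h v) : Function.Injective H.P := by
  intro s t hst
  apply tau_inj
  intro i
  have : H.P t ∈ h.ln (v i) (v (tau s i)) := by rw [← hst]; exact H.P_mem s i
  exact ((H.P_mem_iff t (tau_ne s i).symm).1 this).symm

/-- coordinates -/
noncomputable def F (H : IsHyp h v) : Fin 6 ⊕ Fin 15 → α := Sum.elim v H.P

theorem F_inj (H : IsHyp h v) : Function.Injective H.F := by
  rintro (i | s) (j | t) hst
  · exact congrArg _ (H.inj hst)
  · exact absurd hst.symm (H.P_ne t i)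
  · exact absurd hst (H.P_ne s j)
  · exact congrArg _ (H.P_inj hst)

theorem F_bij (H : IsHyp h v) : Function.Bijective H.F := by
  rw [Fintype.bijective_iff_injective_and_card]
  refine ⟨H.F_inj, ?_⟩
  rw [h.card]; simp

/-- coordinates as an equivalence -/
noncomputable def E (H : IsHyp h v) : (Fin 6 ⊕ Fin 15) ≃ α := Equiv.ofBijective H.F H.F_bij

theorem E_inl (H : IsHyp h v) (i : Fin 6) : H.E (Sum.inl i) = v i := rfl
theorem E_inr (H : IsHyp h v) (s : Fin 15) : H.E (Sum.inr s) = H.P s := rfl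

theorem off (H : IsHyp h v) {x : α} (hx : ∀ i, x ≠ v i) : ∃ s, x = H.P s := by
  obtain ⟨y, hy⟩ := H.E.surjective x
  rcases y with i | s
  · exact absurd hy.symm (hx i)
  · exact ⟨s, hy.symm⟩

/-- the duad line of the model -/
def duad (i j : Fin 6) : Finset (Fin 6 ⊕ Fin 15) :=
  ({i, j} : Finset (Fin 6)).map Function.Embedding.inl ∪ (Finset.univ.filter fun s => tau s i = j).map Function.Embedding.inr

/-- the total line of the model -/
def totl (k : Fin 6) : Finset (Fin 6 ⊕ Fin 15) := (tot k).map Function.Embedding.inr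

/-- the lines of the model -/
def modelLines : Set (Finset (Fin 6 ⊕ Fin 15)) := {l | (∃ i j, i ≠ j ∧ l = duad i j) ∨ ∃ k, l = totl k}

theorem duad_img (H : IsHyp h v) {i j : Fin 6} (hij : i ≠ j) : (duad i j).image H.E = h.ln (v i) (v j) := by
  apply Finset.eq_of_subset_of_card_le
  · intro x hx
    obtain ⟨y, hy, rfl⟩ := Finset.mem_image.1 hx
    rw [duad, Finset.mem_union, Finset.mem_map, Finset.mem_map] at hy
    rcases hy with ⟨a, ha, rfl⟩ | ⟨s, hs, rfl⟩
    · show v a ∈ _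
      rw [H.mem_ln_iff hij]
      simpa using ha
    · show H.P s ∈ _
      rw [H.P_mem_iff s hij]
      simpa using hs
  · rw [h.line_card (h.ln_mem (H.ne hij)), Finset.card_image_of_injective _ H.E.injective, duad,
      Finset.card_union_of_disjoint, Finset.card_map, Finset.card_map, Finset.card_pair hij, duad_card i j hij]
    rw [Finset.disjoint_left]
    intro x hx hx'
    rw [Finset.mem_map] at hx hx'
    obtain ⟨a, _, rfl⟩ := hx
    obtain ⟨b, _, hb⟩ := hx'
    exact absurd hb (by simp)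

theorem dj_of_mem (H : IsHyp h v) {m : Finset α} (hm : m ∈ L) (hext : ∀ i, v i ∉ m) {u w : Fin 15} (hu : H.P u ∈ m)
    (hw : H.P w ∈ m) (huw : u ≠ w) : dj u w := by
  intro i hi
  have h1 := H.P_mem u i
  have h2 := H.P_mem w i
  rw [← hi] at h2
  have : m = h.ln (v i) (v (tau u i)) :=
    h.line_eq hm (h.ln_mem (H.ne (tau_ne u i).symm)) (fun e => huw (H.P_inj e)) hu hw h1 h2
  exact hext i (this ▸ h.left_mem (H.ne (tau_ne u i).symm))

open Classical in
theorem totl_img (H : IsHyp h v) (k : Fin 6) : (totl k).image H.E ∈ L := by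
  have h01 : tot0 k ≠ tot1 k := fun e => tot01 k 0 (by rw [e])
  have hne : H.P (tot0 k) ≠ H.P (tot1 k) := fun e => h01 (H.P_inj e)
  set m := h.ln (H.P (tot0 k)) (H.P (tot1 k)) with hm
  have hmL : m ∈ L := h.ln_mem hne
  have hp0 : H.P (tot0 k) ∈ m := h.left_mem hne
  have hp1 : H.P (tot1 k) ∈ m := h.right_mem hne
  have hext : ∀ i, v i ∉ m := by
    intro i hi
    have e0 : m = h.ln (v i) (v (tau (tot0 k) i)) :=
      h.line_eq hmL (h.ln_mem (H.ne (tau_ne _ i).symm)) (H.P_ne (tot0 k) i).symm hi hp0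
        (h.left_mem (H.ne (tau_ne _ i).symm)) (H.P_mem _ i)
    rw [e0, H.P_mem_iff _ (tau_ne _ i).symm] at hp1
    exact tot01 k i hp1.symm
  let U : Finset (Fin 15) := Finset.univ.filter fun s => H.P s ∈ m
  have hU : m = U.image H.P := by
    ext x
    rw [Finset.mem_image]
    constructor
    · intro hx
      obtain ⟨s, rfl⟩ := H.off (x := x) (fun i e => hext i (e ▸ hx))
      exact ⟨s, by simp [U, hx], rfl⟩
    · rintro ⟨s, hs, rfl⟩
      simpa [U] using hs
  have hUc : U.card = 5 := by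
    rw [← h.line_card hmL, hU, Finset.card_image_of_injective _ H.P_inj]
  have hdj : ∀ u ∈ U, ∀ w ∈ U, u ≠ w → dj u w := fun u hu w hw huw =>
    H.dj_of_mem hmL hext (by simpa [U] using hu) (by simpa [U] using hw) huw
  have hU0 : tot0 k ∈ U := by simp [U, hp0]
  have hU1 : tot1 k ∈ U := by simp [U, hp1]
  have hUt : U ⊆ tot k := by
    intro u hu
    by_contra hut
    have hu0 : u ≠ tot0 k := fun e => hut (e ▸ tot0_mem k)
    have hu1 : u ≠ tot1 k := fun e => hut (e ▸ tot1_mem k)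
    have hsub : U ⊆ {tot0 k, tot1 k, u} := by
      intro w hw
      by_contra hwn
      simp only [Finset.mem_insert, Finset.mem_singleton, not_or] at hwn
      exact tot_max k u w hut (hdj u hu _ hU0 hu0) (hdj u hu _ hU1 hu1) (hdj w hw _ hU0 hwn.1) (hdj w hw _ hU1 hwn.2.1)
        (hdj w hw u hu hwn.2.2)
    have := (Finset.card_le_card hsub).trans Finset.card_le_three
    omega
  have hUeq : U = tot k := Finset.eq_of_subset_of_card_le hUt (by rw [tot_card, hUc])
  have : (totl k).image H.E = m := by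
    rw [hU, hUeq, totl]
    ext x
    simp only [Finset.mem_image, Finset.mem_map]
    constructor
    · rintro ⟨y, ⟨s, hs, rfl⟩, rfl⟩
      exact ⟨s, hs, rfl⟩
    · rintro ⟨s, hs, rfl⟩
      exact ⟨_, ⟨s, hs, rfl⟩, rfl⟩
  rw [this]
  exact hmL

/-- the coordinates identify the model lines with the lines of the plane -/
theorem lines_img (H : IsHyp h v) : (fun b : Finset (Fin 6 ⊕ Fin 15) => b.image H.E) '' modelLines = L := by
  ext l
  constructor
  · rintro ⟨b, (⟨i, j, hij, rfl⟩ | ⟨k, rfl⟩), rfl⟩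
    · show (duad i j).image H.E ∈ L
      rw [H.duad_img hij]
      exact h.ln_mem (H.ne hij)
    · exact H.totl_img k
  · intro hl
    by_cases hex : ∃ i, v i ∈ l
    · obtain ⟨i, hi⟩ := hex
      obtain ⟨j, hij, hm⟩ := H.second i hl hi
      refine ⟨duad i j, Or.inl ⟨i, j, hij, rfl⟩, ?_⟩
      rw [hm]
      exact H.duad_img hij
    · push Not at hex
      have h2 : 1 < l.card := by rw [h.line_card hl]; norm_num
      obtain ⟨x, hx, y, hy, hxy⟩ := Finset.one_lt_card.1 h2
      obtain ⟨s, rfl⟩ := H.off (x := x) (fun i e => hex i (e ▸ hx))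
      obtain ⟨t, rfl⟩ := H.off (x := y) (fun i e => hex i (e ▸ hy))
      have hst : s ≠ t := fun e => hxy (by rw [e])
      obtain ⟨k, hs, ht⟩ := tot_exists s t (H.dj_of_mem hl hex hx hy hst)
      refine ⟨totl k, Or.inr ⟨k, rfl⟩, ?_⟩
      refine h.line_eq (H.totl_img k) hl hxy ?_ ?_ hx hy
      · exact Finset.mem_image.2 ⟨Sum.inr s, by simp [totl, hs], rfl⟩
      · exact Finset.mem_image.2 ⟨Sum.inr t, by simp [totl, ht], rfl⟩

end IsHyp

/-- enumerate a hyperoval -/
theorem exists_hyp (h : IsPl L) : ∃ v : Fin 6 → α, IsHyp h v := by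
  obtain ⟨Hs, hc, hI⟩ := h.exists_hyper
  let e : Fin 6 ≃ Hs := (Finset.equivFinOfCardEq hc).symm
  refine ⟨fun i => e i, ⟨fun i j hij => e.injective (Subtype.ext hij), ?_⟩⟩
  have : (Finset.univ.image fun i => (e i : α)) = Hs := by
    ext x
    simp only [Finset.mem_image, Finset.mem_univ, true_and]
    constructor
    · rintro ⟨i, rfl⟩; exact (e i).2
    · intro hx
      exact ⟨e.symm ⟨x, hx⟩, by simp⟩
  rw [this]; exact hI

end Cfsg.Agent.H93
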