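import Mathlib
import Cfsg.Prelude.Def_GeometricClasses

set_option autoImplicit false

/-!
Transvections `x ↦ x + (φ ⬝ x) v` as elements of `GL ι F`, for `φ ⬝ v = 0`; they generate `specialLinear`.
-/

namespace Cfsg.Agent.H93

open Matrix

variable {ι : Type} [Fintype ι] [DecidableEq ι] {F : Type*} [Field F]

/-- the transvection matrix `1 + v φᵀ` -/
def tvM (v φ : ι → F) : Matrix ι ι F := 1 + Matrix.vecMulVec v φ

theorem tvM_mulVec (v φ x : ι → F) : tvM v φ *ᵥ x = x + (φ ⬝ᵥ x) • v := by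
  rw [tvM, Matrix.add_mulVec, Matrix.one_mulVec]
  congr 1
  ext i
  simp only [Matrix.mulVec, dotProduct, Matrix.vecMulVec_apply, Pi.smul_apply, smul_eq_mul]
  rw [Finset.sum_mul]
  exact Finset.sum_congr rfl fun j _ => by ring

theorem ext_mulVec {A B : Matrix ι ι F} (h : ∀ x, A *ᵥ x = B *ᵥ x) : A = B := by
  ext i j
  have := congrFun (h (Pi.single j 1)) i
  simpa using this

theorem tvM_mul_neg (v φ : ι → F) (h : φ ⬝ᵥ v = 0) : tvM v φ * tvM (-v) φ = 1 := by
  apply ext_mulVec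
  intro x
  rw [← Matrix.mulVec_mulVec, tvM_mulVec, tvM_mulVec, Matrix.one_mulVec]
  simp only [dotProduct_add, dotProduct_smul, dotProduct_neg, h]
  ext i
  simp

theorem tvM_neg_mul (v φ : ι → F) (h : φ ⬝ᵥ v = 0) : tvM (-v) φ * tvM v φ = 1 := by
  have := tvM_mul_neg (-v) φ (by simp [h])
  simpa using this

/-- the transvection as an element of `GL` -/
def tv (v φ : ι → F) (h : φ ⬝ᵥ v = 0) : GL ι F :=
  ⟨tvM v φ, tvM (-v) φ, tvM_mul_neg v φ h, tvM_neg_mul v φ h⟩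

@[simp] theorem tv_coe (v φ : ι → F) (h : φ ⬝ᵥ v = 0) : (tv v φ h : Matrix ι ι F) = tvM v φ := rfl

theorem tv_inv (v φ : ι → F) (h : φ ⬝ᵥ v = 0) : (tv v φ h)⁻¹ = tv (-v) φ (by simp [h]) := by
  apply Units.ext
  rfl

theorem tv_det (v φ : ι → F) (h : φ ⬝ᵥ v = 0) : (tvM v φ).det = 1 := by
  rw [tvM, Matrix.vecMulVec_eq Unit, Matrix.det_one_add_replicateCol_mul_replicateRow, h, add_zero]

theorem mem_sl_iff (g : GL ι F) : g ∈ Cfsg.Geo.specialLinear ι F ↔ (g : Matrix ι ι F).det = 1 := by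
  rw [Cfsg.Geo.specialLinear, MonoidHom.mem_ker]
  constructor
  · intro h
    have := congrArg Units.val h
    simpa using this
  · intro h
    apply Units.ext
    simpa using h

theorem tv_mem_sl (v φ : ι → F) (h : φ ⬝ᵥ v = 0) : tv v φ h ∈ Cfsg.Geo.specialLinear ι F := by
  rw [mem_sl_iff, tv_coe, tv_det v φ h]

/-- any linear functional is given by a dot product -/
theorem exists_vec_of_dual (f : (ι → F) →ₗ[F] F) : ∃ φ : ι → F, ∀ x, f x = φ ⬝ᵥ x := by
  refine ⟨fun i => f (Pi.single i 1), fun x => ?_⟩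
  conv_lhs => rw [← Finset.univ_sum_single x]
  rw [map_sum, dotProduct]
  refine Finset.sum_congr rfl fun i _ => ?_
  have : (Pi.single i (x i) : ι → F) = x i • Pi.single i 1 := by
    ext j
    by_cases hj : j = i
    · subst hj; simp
    · simp [Pi.single_eq_of_ne hj]
  rw [this, map_smul, smul_eq_mul, mul_comm]

/-- separation: a vector outside a subspace is detected by a functional vanishing on the subspace -/
theorem exists_vec_sep (W : Submodule F (ι → F)) (u : ι → F) (hu : u ∉ W) :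
    ∃ φ : ι → F, (∀ w ∈ W, φ ⬝ᵥ w = 0) ∧ φ ⬝ᵥ u = 1 := by
  obtain ⟨f, hf1, hf2⟩ := Submodule.exists_le_ker_of_notMem hu
  obtain ⟨φ, hφ⟩ := exists_vec_of_dual f
  refine ⟨(f u)⁻¹ • φ, fun w hw => ?_, ?_⟩
  · rw [smul_dotProduct, ← hφ]
    have : f w = 0 := hf2 hw
    rw [this, smul_zero]
  · rw [smul_dotProduct, ← hφ, smul_eq_mul, inv_mul_cancel₀ hf1]

theorem mem_stab_iff (W : Submodule F (ι → F)) (g : GL ι F) :
    g ∈ Cfsg.Geo.subspaceStabilizer W ↔ ∀ v, v ∈ W ↔ (g : Matrix ι ι F) *ᵥ v ∈ W := by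
  rfl

/-- a transvection with centre in `W`, stabilises `W` -/
theorem tv_mem_stab_of_center (W : Submodule F (ι → F)) (v φ : ι → F) (h : φ ⬝ᵥ v = 0) (hv : v ∈ W) :
    tv v φ h ∈ Cfsg.Geo.subspaceStabilizer W := by
  rw [mem_stab_iff]
  intro x
  rw [tv_coe, tvM_mulVec]
  constructor
  · intro hx
    exact W.add_mem hx (W.smul_mem _ hv)
  · intro hx
    have := W.sub_mem hx (W.smul_mem (φ ⬝ᵥ x) hv)
    simpa using this

/-- a transvection whose functional vanishes on `W` stabilises `W` -/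
theorem tv_mem_stab_of_axis (W : Submodule F (ι → F)) (v φ : ι → F) (h : φ ⬝ᵥ v = 0)
    (hW : ∀ w ∈ W, φ ⬝ᵥ w = 0) :
    tv v φ h ∈ Cfsg.Geo.subspaceStabilizer W := by
  rw [mem_stab_iff]
  intro x
  rw [tv_coe, tvM_mulVec]
  constructor
  · intro hx
    rw [hW x hx, zero_smul, add_zero]
    exact hx
  · intro hx
    have h1 := hW _ hx
    rw [dotProduct_add, dotProduct_smul, h, smul_zero, add_zero] at h1
    rw [h1, zero_smul, add_zero] at hx
    exact hx

/-- a transvection moving `w ∈ W` outside `W` does not stabilise `W` -/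
theorem tv_not_mem_stab (W : Submodule F (ι → F)) (v φ : ι → F) (h : φ ⬝ᵥ v = 0) (hv : v ∉ W)
    (w : ι → F) (hw : w ∈ W) (hφ : φ ⬝ᵥ w ≠ 0) :
    tv v φ h ∉ Cfsg.Geo.subspaceStabilizer W := by
  rw [mem_stab_iff]
  intro hx
  have := (hx w).1 hw
  rw [tv_coe, tvM_mulVec] at this
  have h2 := W.sub_mem this hw
  rw [add_sub_cancel_left] at h2
  have h3 := W.smul_mem (φ ⬝ᵥ w)⁻¹ h2
  rw [smul_smul, inv_mul_cancel₀ hφ, one_smul] at h3
  exact hv h3

/-- `Stab W ⊓ SL < SL` for a proper non-zero subspace -/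
theorem stab_lt_sl (W : Submodule F (ι → F)) (hW0 : W ≠ ⊥) (hW1 : W ≠ ⊤) :
    Cfsg.Geo.subspaceStabilizer W ⊓ Cfsg.Geo.specialLinear ι F < Cfsg.Geo.specialLinear ι F := by
  refine lt_of_le_of_ne inf_le_right ?_
  intro heq
  obtain ⟨w, hw, hw0⟩ := (Submodule.ne_bot_iff W).1 hW0
  obtain ⟨v, hv⟩ : ∃ v, v ∉ W := by
    by_contra hcon
    push Not at hcon
    exact hW1 (eq_top_iff.2 fun x _ => hcon x)
  have hwv : w ∉ Submodule.span F {v} := by
    intro hmem
    obtain ⟨c, hc⟩ := Submodule.mem_span_singleton.1 hmem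
    have hc0 : c ≠ 0 := by
      rintro rfl
      exact hw0 (by rw [← hc, zero_smul])
    apply hv
    have : v = c⁻¹ • w := by rw [← hc, smul_smul, inv_mul_cancel₀ hc0, one_smul]
    rw [this]
    exact W.smul_mem _ hw
  obtain ⟨φ, hφ1, hφ2⟩ := exists_vec_sep _ w hwv
  have h0 : φ ⬝ᵥ v = 0 := hφ1 v (Submodule.mem_span_singleton_self v)
  have hmem : tv v φ h0 ∈ Cfsg.Geo.subspaceStabilizer W ⊓ Cfsg.Geo.specialLinear ι F := by
    rw [heq]; exact tv_mem_sl v φ h0
  exact tv_not_mem_stab W v φ h0 hv w hw (by rw [hφ2]; exact one_ne_zero) hmem.1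

end Cfsg.Agent.H93
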