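import Mathlib
import Cfsg.Prelude.Def_GeometricClasses
import Cfsg.Agent.H93.Transv

set_option autoImplicit false

/-!
`specialLinear ι F` is generated by transvections; conjugates of transvections.
-/

namespace Cfsg.Agent.H93

open Matrix

variable {ι : Type} [Fintype ι] [DecidableEq ι] {F : Type*} [Field F]

theorem transvection_mulVec (i j : ι) (c : F) (x : ι → F) :
    Matrix.transvection i j c *ᵥ x = x + (c * x j) • Pi.single i 1 := by
  rw [Matrix.transvection, Matrix.add_mulVec, Matrix.one_mulVec]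
  congr 1
  ext k
  simp [Matrix.mulVec, dotProduct, Matrix.single_apply, Pi.single_apply]
  by_cases hk : k = i
  · subst hk
    simp
  · simp [hk, Ne.symm hk]

theorem transvection_eq_tvM (i j : ι) (c : F) :
    Matrix.transvection i j c = tvM (Pi.single i 1) (Pi.single j c) := by
  apply ext_mulVec
  intro x
  rw [transvection_mulVec, tvM_mulVec, single_dotProduct]

theorem diag2n_eq (i j : ι) (hij : i ≠ j) (c : F) (hc : c ≠ 0) :
    (Matrix.SpecialLinearGroup.diag2n hij c hc) =
      Matrix.SpecialLinearGroup.transvection hij c * Matrix.SpecialLinearGroup.transvection hij.symm (-c⁻¹) *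
      Matrix.SpecialLinearGroup.transvection hij c * Matrix.SpecialLinearGroup.transvection hij (-1) *
      Matrix.SpecialLinearGroup.transvection hij.symm 1 * Matrix.SpecialLinearGroup.transvection hij (-1) := by
  apply Subtype.ext
  simp only [Matrix.SpecialLinearGroup.coe_mul, Matrix.SpecialLinearGroup.transvection_coe,
    Matrix.SpecialLinearGroup.diag2n_coe]
  apply ext_mulVec
  intro x
  have tm : ∀ (i j : ι) (c : F) (x : ι → F), (1 + Matrix.single i j c) *ᵥ x = x + (c * x j) • Pi.single i 1 :=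
    fun i j c x => transvection_mulVec i j c x
  simp only [← Matrix.mulVec_mulVec, tm]
  ext k
  rw [Matrix.mulVec_diagonal]
  by_cases hk : k = i
  · subst hk
    simp [hij, hij.symm]
    field_simp
    ring
  · by_cases hk2 : k = j
    · subst hk2
      simp [hij, hij.symm]
      field_simp
      ring
    · simp [hk, hk2]

/-- A subgroup of `GL` containing all transvections contains `specialLinear`. -/
theorem sl_le_of_tv_mem [Nontrivial ι] (M : Subgroup (GL ι F))
    (hM : ∀ (v φ : ι → F) (h : φ ⬝ᵥ v = 0), tv v φ h ∈ M) :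
    Cfsg.Geo.specialLinear ι F ≤ M := by
  have htr : ∀ (i j : ι) (hij : i ≠ j) (a : F),
      Matrix.SpecialLinearGroup.toGL (Matrix.SpecialLinearGroup.transvection hij a) ∈ M := by
    intro i j hij a
    have h0 : (Pi.single j a : ι → F) ⬝ᵥ (Pi.single i 1) = 0 := by
      rw [single_dotProduct, Pi.single_eq_of_ne hij.symm, mul_zero]
    have : Matrix.SpecialLinearGroup.toGL (Matrix.SpecialLinearGroup.transvection hij a) =
        tv (Pi.single i 1) (Pi.single j a) h0 := by
      apply Units.ext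
      rw [tv_coe, ← transvection_eq_tvM]
      rfl
    rw [this]
    exact hM _ _ _
  have key : ∀ A : Matrix.SpecialLinearGroup ι F, Matrix.SpecialLinearGroup.toGL A ∈ M := by
    intro A
    refine Matrix.SpecialLinearGroup.diagonal_transvection_induction' (fun A => Matrix.SpecialLinearGroup.toGL A ∈ M) A ?_ ?_ ?_
    · intro i j hij c hc
      show Matrix.SpecialLinearGroup.toGL _ ∈ M
      rw [diag2n_eq]
      simp only [map_mul]
      exact M.mul_mem (M.mul_mem (M.mul_mem (M.mul_mem (M.mul_mem (htr _ _ _ _) (htr _ _ _ _)) (htr _ _ _ _)) (htr _ _ _ _)) (htr _ _ _ _)) (htr _ _ _ _)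
    · exact htr
    · intro A B hA hB
      show Matrix.SpecialLinearGroup.toGL (A * B) ∈ M
      rw [map_mul]
      exact M.mul_mem hA hB
  intro g hg
  rw [mem_sl_iff] at hg
  have := key ⟨(g : Matrix ι ι F), hg⟩
  convert this using 1
  apply Units.ext
  rfl

/-- Conjugating a transvection -/
theorem conj_tv (g : GL ι F) (v φ : ι → F) (h : φ ⬝ᵥ v = 0) :
    ∃ h' : (φ ᵥ* ((g⁻¹ : GL ι F) : Matrix ι ι F)) ⬝ᵥ ((g : Matrix ι ι F) *ᵥ v) = 0,
      g * tv v φ h * g⁻¹ = tv ((g : Matrix ι ι F) *ᵥ v) (φ ᵥ* ((g⁻¹ : GL ι F) : Matrix ι ι F)) h' := by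
  have h' : (φ ᵥ* ((g⁻¹ : GL ι F) : Matrix ι ι F)) ⬝ᵥ ((g : Matrix ι ι F) *ᵥ v) = 0 := by
    rw [← Matrix.dotProduct_mulVec, Matrix.mulVec_mulVec, ← Units.val_mul, inv_mul_cancel, Units.val_one,
      Matrix.one_mulVec, h]
  refine ⟨h', ?_⟩
  apply Units.ext
  apply ext_mulVec
  intro x
  rw [Units.val_mul, Units.val_mul, tv_coe, tv_coe, ← Matrix.mulVec_mulVec, ← Matrix.mulVec_mulVec,
    tvM_mulVec, tvM_mulVec, Matrix.mulVec_add, Matrix.mulVec_mulVec, ← Units.val_mul, mul_inv_cancel,
    Units.val_one, Matrix.one_mulVec, Matrix.mulVec_smul, Matrix.dotProduct_mulVec]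

end Cfsg.Agent.H93
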